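import Groth.Prelude.Def_AGF
import Groth.Agent.Lib.GrpQ.Desc
import Groth.Agent.Lib.GrpSch.OrbitDim

/-!
Orbit maps and isotropy groups: homogeneous spaces as quotients, their universal property.
-/

set_option autoImplicit false

universe u

open CategoryTheory Limits MonoidalCategory CartesianMonoidalCategory MonObj AlgebraicGeometry
open Groth.Agent.Lib.GrpQ

namespace Groth.Agent.Lib.Homog

section Gen

variable {S : Scheme.{u}} {G H X : Over S} [GrpObj G] (a : AlgGrp.Action G X) (o : 𝟙_ (Over S) ⟶ X)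

theorem rel_iff_inv_mul {T : Over S} (g g' : T ⟶ G) :
    g ≫ a.orbitMap o = g' ≫ a.orbitMap o ↔ (g⁻¹ * g') ≫ a.orbitMap o = toUnit T ≫ o := by
  rw [GrpSch.mul_orbit]
  constructor
  · intro h
    rw [← h, GrpSch.comp_orbit, GrpSch.act_inv_act]
  · intro h
    have := congrArg (fun z => lift g z ≫ a.act) h
    simp only [GrpSch.act_act_inv] at this
    rw [this, ← GrpSch.comp_orbit]

variable {a o}

theorem fst_orbit_eq {i : H ⟶ G} (hi : i ≫ a.orbitMap o = toUnit H ≫ o) :
    fst G H ≫ a.orbitMap o = ((G ◁ i) ≫ μ[G]) ≫ a.orbitMap o := by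
  have h : (G ◁ i) ≫ μ[G] = fst G H * (snd G H ≫ i) := by
    rw [Hom.mul_def]
    congr 1
  rw [h, rel_iff_inv_mul, inv_mul_cancel_left, Category.assoc, hi, ← Category.assoc,
    toUnit_unique (snd G H ≫ toUnit H) (toUnit _)]

theorem comp_mulPair (i : H ⟶ G) {T : Over S} (g : T ⟶ G) (h : T ⟶ H) :
    lift g h ≫ (G ◁ i) ≫ μ[G] = g * (h ≫ i) := by
  rw [lift_whiskerLeft_assoc, Hom.mul_def]

/-- The square of the quotient from the square of the isotropy group. -/
theorem isPullback_pair {i : H ⟶ G} (hi : IsPullback i (toUnit H) (a.orbitMap o) o) :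
    IsPullback (fst G H) ((G ◁ i) ≫ μ[G]) (a.orbitMap o) (a.orbitMap o) := by
  refine ⟨⟨fst_orbit_eq hi.w⟩, ⟨PullbackCone.IsLimit.mk _
    (fun s => lift s.fst (hi.lift (s.fst⁻¹ * s.snd) (toUnit _) ((rel_iff_inv_mul a o _ _).1 s.condition)))
    (fun s => lift_fst _ _) (fun s => ?_) (fun s m h1 h2 => ?_)⟩⟩
  · rw [comp_mulPair, hi.lift_fst, mul_inv_cancel_left]
  · apply CartesianMonoidalCategory.hom_ext
    · rw [lift_fst]; exact h1
    · rw [lift_snd]
      refine hi.hom_ext ?_ (toUnit_unique _ _)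
      rw [hi.lift_fst]
      have h3 : m = lift (m ≫ fst G H) (m ≫ snd G H) := by rw [← comp_lift, lift_fst_snd, Category.comp_id]
      rw [h3, comp_mulPair] at h2
      rw [← h1, ← h2, inv_mul_cancel_left]

/-- Points with the same image in a quotient differ by a point of the subgroup. -/
theorem exists_rel {i : H ⟶ G} (hq : IsPullback (fst G H) ((G ◁ i) ≫ μ[G]) (a.orbitMap o) (a.orbitMap o))
    {T : Over S} (g g' : T ⟶ G) (e : g ≫ a.orbitMap o = g' ≫ a.orbitMap o) :
    ∃ h : T ⟶ H, g' = g * (h ≫ i) := by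
  refine ⟨hq.lift g g' e ≫ snd G H, ?_⟩
  conv_lhs => rw [← hq.lift_snd g g' e]
  conv_lhs => rw [show hq.lift g g' e = lift g (hq.lift g g' e ≫ snd G H) by
    conv_lhs => rw [← Category.comp_id (hq.lift g g' e), ← lift_fst_snd, comp_lift, hq.lift_fst]]
  rw [comp_mulPair]

/-- The subgroup fixes the base point. -/
theorem comp_orbit_of_quotient [GrpObj H] {i : H ⟶ G} [IsMonHom i]
    (hq : IsPullback (fst G H) ((G ◁ i) ≫ μ[G]) (a.orbitMap o) (a.orbitMap o)) :
    i ≫ a.orbitMap o = toUnit H ≫ o := by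
  have h := congrArg (lift (1 : H ⟶ G) (𝟙 H) ≫ ·) hq.w
  simp only [← Category.assoc, lift_fst] at h
  rw [Category.assoc (lift (1 : H ⟶ G) (𝟙 H)), comp_mulPair, Category.id_comp, _root_.one_mul] at h
  rw [← h, Hom.one_def, Category.assoc, GrpSch.η_orbit]

end Gen

variable {k : Type u} [Field k] {G H X : Over (Spec (CommRingCat.of k))} [GrpObj G] [GrpObj H]
  [LocallyOfFiniteType G.hom] [QuasiCompact G.hom]

omit [LocallyOfFiniteType G.hom] [GrpObj H] in
theorem isCover_orbitMap [LocallyOfFiniteType X.hom] {a : AlgGrp.Action G X}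
    {o : 𝟙_ (Over (Spec (CommRingCat.of k))) ⟶ X} [Flat (a.orbitMap o).left] [Surjective (a.orbitMap o).left] :
    IsCover (a.orbitMap o) := by
  have : IsLocallyNoetherian X.left := LocallyOfFiniteType.isLocallyNoetherian X.hom
  have : QuasiCompact ((a.orbitMap o).left ≫ X.hom) := by rw [Over.w]; infer_instance
  exact ⟨‹_›, ‹_›, QuasiCompact.of_comp (a.orbitMap o).left X.hom⟩

omit [LocallyOfFiniteType G.hom] in
theorem isCover_of_isQuotient {i : H ⟶ G} {a : AlgGrp.Action G X} {o : 𝟙_ (Over (Spec (CommRingCat.of k))) ⟶ X}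
    (hq : AGF.IsQuotient i X a o) : IsCover (a.orbitMap o) := by
  obtain ⟨_, _, _, -⟩ := hq
  exact isCover_orbitMap

omit [LocallyOfFiniteType G.hom] in
/-- The universal property of a homogeneous space. -/
theorem existsUnique_equivariant {i : H ⟶ G} {a : AlgGrp.Action G X}
    {o : 𝟙_ (Over (Spec (CommRingCat.of k))) ⟶ X} (hq : AGF.IsQuotient i X a o)
    {X' : Over (Spec (CommRingCat.of k))} (a' : AlgGrp.Action G X') (o' : 𝟙_ (Over (Spec (CommRingCat.of k))) ⟶ X')
    (ho' : i ≫ a'.orbitMap o' = toUnit H ≫ o') :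
    ∃! f : X ⟶ X', (G ◁ f) ≫ a'.act = a.act ≫ f ∧ a.orbitMap o ≫ f = a'.orbitMap o' := by
  have hc := isCover_of_isQuotient hq
  obtain ⟨f, hf⟩ := exists_desc hc (a'.orbitMap o') fun Z x y e => by
    obtain ⟨h, rfl⟩ := exists_rel hq.2.2.2 x y e
    rw [GrpSch.mul_orbit, Category.assoc h i, ho', GrpSch.comp_orbit, ← Category.assoc,
      toUnit_unique (h ≫ toUnit H) (toUnit Z)]
  refine ⟨f, ⟨?_, hf⟩, fun f' hf' => cancel_cover hc (hf'.2.trans hf.symm)⟩
  have hc' : IsCover (G ◁ a.orbitMap o) := by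
    obtain ⟨_, _, _⟩ := hc
    exact ⟨GrpSch.whiskerLeft_left_of (P := @Flat) _ _ ‹_›, GrpSch.whiskerLeft_left_of (P := @Surjective) _ _ ‹_›,
      GrpSch.whiskerLeft_left_of (P := @QuasiCompact) _ _ ‹_›⟩
  refine cancel_cover hc' ?_
  rw [← MonoidalCategory.whiskerLeft_comp_assoc, hf, GrpSch.orbit_equivariant, ← Category.assoc,
    GrpSch.orbit_equivariant, Category.assoc, hf]

end Groth.Agent.Lib.Homog
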