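import Groth.Agent.Lib.Homog.Smooth
import Groth.Agent.Lib.GrpSch.ClosedDescent
import Groth.Agent.Lib.GrpQ.MonoClosed
import Groth.Agent.S16480

/-!
Existence of the quotient of an affine algebraic group by a subgroup.
-/

set_option autoImplicit false

universe u

open CategoryTheory Limits MonoidalCategory CartesianMonoidalCategory MonObj AlgebraicGeometry
open Groth.Agent.Lib.GrpQ Groth.Agent.Lib.GrpQ.AffQ

namespace Groth.Agent.Lib.Homog

noncomputable section

variable {k : Type u} [Field k]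

/-- Quotients descend to closed subgroups of the ambient group. -/
theorem exists_quotient_of_ambient {G GG H : Over (Spec (CommRingCat.of k))} [GrpObj G] [GrpObj GG] [GrpObj H]
    [LocallyOfFiniteType G.hom] [QuasiCompact G.hom] [LocallyOfFiniteType GG.hom] [QuasiCompact GG.hom]
    (ιG : G ⟶ GG) [IsMonHom ιG] [IsClosedImmersion ιG.left] (i : H ⟶ G) [IsMonHom i]
    {Y : Over (Spec (CommRingCat.of k))} (b : AlgGrp.Action GG Y) (y : 𝟙_ (Over (Spec (CommRingCat.of k))) ⟶ Y)
    (hY : AGF.IsQuotient (i ≫ ιG) Y b y) [QuasiCompact Y.hom] :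
    ∃ (X : Over (Spec (CommRingCat.of k))) (a : AlgGrp.Action G X) (o : 𝟙_ (Over (Spec (CommRingCat.of k))) ⟶ X)
      (j : X ⟶ Y), AGF.IsQuotient i X a o ∧ QuasiCompact X.hom ∧ IsClosedImmersion j.left ∧
        (ιG ⊗ₘ j) ≫ b.act = a.act ≫ j ∧ o ≫ j = y := by
  have : Mono ιG := mono_of_left ιG
  let φ := b.orbitMap y
  have hc : IsCover φ := isCover_of_isQuotient hY
  obtain ⟨_, hf, hs, hpair⟩ := hY
  have : IsLocallyNoetherian Y.left := LocallyOfFiniteType.isLocallyNoetherian Y.hom
  have : LocallyOfFiniteType (φ.left ≫ Y.hom) := by rw [Over.w]; infer_instance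
  have := locallyOfFiniteType_of_comp φ.left Y.hom
  have : LocallyOfFinitePresentation φ.left := inferInstance
  have hsat : ∀ {T : Scheme.{u}} (x₀ x₁ : T ⟶ GG.left), x₀ ≫ φ.left = x₁ ≫ φ.left →
      (∃ v, v ≫ ιG.left = x₀) → ∃ v, v ≫ ιG.left = x₁ := by
    rintro T x₀ x₁ e ⟨v, rfl⟩
    let T' : Over (Spec (CommRingCat.of k)) := Over.mk ((v ≫ ιG.left) ≫ GG.hom)
    have hw : x₁ ≫ GG.hom = (v ≫ ιG.left) ≫ GG.hom := by
      rw [← Over.w φ, ← Category.assoc, ← e, Category.assoc, Over.w]
    let v' : T' ⟶ G := Over.homMk v (by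
      change v ≫ G.hom = (v ≫ ιG.left) ≫ GG.hom
      rw [Category.assoc, Over.w])
    obtain ⟨h, hh⟩ := exists_rel hpair (v' ≫ ιG) (Over.homMk x₁ hw : T' ⟶ GG) (Over.OverMorphism.ext e)
    refine ⟨(v' * (h ≫ i)).left, ?_⟩
    rw [← Over.comp_left, MonObj.mul_comp, Category.assoc, ← hh]
    rfl
  obtain ⟨W, j₀, q₀, hj₀, hsq⟩ := GrpSch.exists_closedImmersion_descent φ.left ιG.left hsat
  let X : Over (Spec (CommRingCat.of k)) := Over.mk (j₀ ≫ Y.hom)
  let j : X ⟶ Y := Over.homMk j₀ rfl
  have hjc : IsClosedImmersion j.left := hj₀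
  have : Mono j := mono_of_left j
  let q : G ⟶ X := Over.homMk q₀ (by
    change q₀ ≫ j₀ ≫ Y.hom = _
    rw [← reassoc_of% hsq.w, Over.w, Over.w])
  have hq : q ≫ j = ιG ≫ φ := Over.OverMorphism.ext hsq.w.symm
  have hqf : Flat q.left := MorphismProperty.of_isPullback (P := @Flat) hsq hf
  have hqs : Surjective q.left := MorphismProperty.of_isPullback (P := @Surjective) hsq hs
  have hqq : QuasiCompact q.left := MorphismProperty.of_isPullback (P := @QuasiCompact) hsq hc.2.2
  have hqc : IsCover q := ⟨hqf, hqs, hqq⟩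
  have hwh : IsCover (G ◁ q) := ⟨GrpSch.whiskerLeft_left_of (P := @Flat) _ _ hqf,
    GrpSch.whiskerLeft_left_of (P := @Surjective) _ _ hqs, GrpSch.whiskerLeft_left_of (P := @QuasiCompact) _ _ hqq⟩
  have hom : ∀ {T : Over (Spec (CommRingCat.of k))} (g : T ⟶ G) (h : T ⟶ G),
      lift (g ≫ ιG) ((h ≫ q) ≫ j) ≫ b.act = ((g * h) ≫ q) ≫ j := fun g h => by
    rw [Category.assoc, hq, ← Category.assoc h, ← GrpSch.mul_orbit, ← MonObj.mul_comp, Category.assoc, Category.assoc, hq]
  obtain ⟨act, hact⟩ := GrpQ.exists_factor j ((ιG ⊗ₘ j) ≫ b.act) hwh (μ[G] ≫ q) (by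
    have h := hom (fst G G) (snd G G)
    rw [Hom.mul_def, lift_fst_snd, Category.id_comp] at h
    rw [← h, ← Category.assoc (G ◁ q)]
    congr 1
    ext1 <;> simp)
  have hactj : ∀ {T : Over (Spec (CommRingCat.of k))} (g : T ⟶ G) (x : T ⟶ X),
      (lift g x ≫ act) ≫ j = lift (g ≫ ιG) (x ≫ j) ≫ b.act := fun g x => by
    rw [Category.assoc, hact, lift_map_assoc]
  let a : AlgGrp.Action G X := GrpSch.actionMk act
    (fun T x => by rw [← cancel_mono j, hactj, MonObj.one_comp, GrpSch.act_one])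
    (fun T g h x => by rw [← cancel_mono j, hactj, hactj, hactj, MonObj.mul_comp, GrpSch.act_mul])
  let o := η[G] ≫ q
  have hoj : o ≫ j = y := by
    rw [Category.assoc, hq, ← Category.assoc, IsMonHom.one_hom, GrpSch.η_orbit]
  have horb : a.orbitMap o = q := by
    rw [← cancel_mono j, hq, AlgGrp.Action.orbitMap]
    change (lift (𝟙 G) (toUnit G ≫ o) ≫ act) ≫ j = _
    rw [hactj, Category.id_comp, Category.assoc, hoj, GrpSch.comp_orbit,
      toUnit_unique (toUnit G) (toUnit G)]
  refine ⟨X, a, o, j, ⟨?_, by rw [horb]; exact hqf, by rw [horb]; exact hqs, ?_⟩, ?_, hjc, hact.symm, hoj⟩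
  · rw [← Over.w j]; infer_instance
  · rw [horb]
    have e1 : fst G H ≫ q = ((G ◁ i) ≫ μ[G]) ≫ q := by
      have h : (G ◁ i) ≫ μ[G] = fst G H * (snd G H ≫ i) := by
        rw [Hom.mul_def]
        congr 1
      rw [← cancel_mono j, Category.assoc, Category.assoc, hq, h, ← Category.assoc, ← Category.assoc,
        MonObj.mul_comp, Category.assoc (snd G H), ← comp_mulPair]
      simp only [Category.assoc]
      rw [← hpair.w.trans (Category.assoc _ _ _), lift_fst_assoc, Category.assoc]
    refine ⟨⟨e1⟩, ⟨PullbackCone.IsLimit.mk _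
      (fun s => lift s.fst (hpair.lift (s.fst ≫ ιG) (s.snd ≫ ιG) (by
        rw [Category.assoc, Category.assoc, ← hq, reassoc_of% s.condition]) ≫ snd GG H))
      (fun s => lift_fst _ _) (fun s => ?_) (fun s m h1 h2 => ?_)⟩⟩
    · rw [comp_mulPair, ← cancel_mono ιG, MonObj.mul_comp]
      have h := hpair.lift_snd (s.fst ≫ ιG) (s.snd ≫ ιG) (by
        rw [Category.assoc, Category.assoc, ← hq, reassoc_of% s.condition])
      conv_rhs => rw [← h]
      generalize hL : hpair.lift (s.fst ≫ ιG) (s.snd ≫ ιG) _ = L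
      have hL1 : L ≫ fst GG H = s.fst ≫ ιG := by rw [← hL, hpair.lift_fst]
      rw [show L = lift (L ≫ fst GG H) (L ≫ snd GG H) by rw [← comp_lift, lift_fst_snd, Category.comp_id]]
      rw [comp_mulPair, hL1, lift_snd, Category.assoc, Category.assoc]
    · apply CartesianMonoidalCategory.hom_ext
      · rw [lift_fst]; exact h1
      · rw [lift_snd]
        let m' := lift (m ≫ fst G H ≫ ιG) (m ≫ snd G H)
        have hm' : m' = hpair.lift (s.fst ≫ ιG) (s.snd ≫ ιG) (by
            rw [Category.assoc, Category.assoc, ← hq, reassoc_of% s.condition]) := by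
          apply hpair.hom_ext
          · rw [hpair.lift_fst, lift_fst, reassoc_of% h1]
          · rw [hpair.lift_snd, comp_mulPair]
            rw [show m = lift (m ≫ fst G H) (m ≫ snd G H) by rw [← comp_lift, lift_fst_snd, Category.comp_id],
              comp_mulPair] at h2
            rw [← h2, MonObj.mul_comp, Category.assoc (m ≫ snd G H), Category.assoc m, Category.assoc]
        rw [← hm', lift_snd]
  · rw [← Over.w j]; infer_instance

/-- The quotient of an affine algebraic group by a subgroup. -/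
theorem exists_quotient_affine (G H : Over (Spec (CommRingCat.of k))) [GrpObj G] [GrpObj H] [IsAffine G.left]
    [LocallyOfFiniteType G.hom] [LocallyOfFiniteType H.hom] [QuasiCompact H.hom] (i : H ⟶ G) [IsMonHom i] [Mono i] :
    ∃ (X : Over (Spec (CommRingCat.of k))) (a : AlgGrp.Action G X) (o : 𝟙_ (Over (Spec (CommRingCat.of k))) ⟶ X),
      AGF.IsQuotient i X a o ∧ QuasiCompact X.hom := by
  obtain ⟨A, _, _, e, he⟩ := H1.Hopf.exists_iso G
  have hie : IsIso e.inv.left := ((Over.forget _).mapIso e.symm).isIso_hom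
  have hie' : IsIso e.hom.left := ((Over.forget _).mapIso e).isIso_hom
  have : Algebra.FiniteType k A := DomFlat.finiteType_of_locallyOfFiniteType (by
    rw [← Over.w e.inv]; infer_instance)
  obtain ⟨n, π, hπ⟩ := S16480.result k A
  let B := CoordGrp.GLn n k
  have := smooth_GLn (k := k) n
  have : LocallyOfFiniteType (sp k B).hom := DomFlat.locallyOfFiniteType_of_finiteType (k := k) B
  have : QuasiCompact (sp k B).hom := inferInstance
  have hcl : IsClosedImmersion (homOfBialgHom π).left := by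
    rw [homOfBialgHom_left]
    exact IsClosedImmersion.spec_of_surjective _ hπ
  let ιG : G ⟶ sp k B := e.hom ≫ homOfBialgHom π
  have : IsClosedImmersion ιG.left := by
    change IsClosedImmersion (e.hom.left ≫ (homOfBialgHom π).left)
    infer_instance
  have : QuasiCompact i.left := quasiCompact_left i
  have : IsClosedImmersion i.left := MonoClosed.isClosedImmersion_of_mono i
  have : IsClosedImmersion (i ≫ ιG).left := by rw [Over.comp_left]; infer_instance
  have : QuasiCompact G.hom := inferInstance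
  obtain ⟨Y, b, y, hY, _⟩ := exists_quotient_smooth H (i ≫ ιG)
  obtain ⟨X, a, o, -, h1, h2, -⟩ := exists_quotient_of_ambient ιG i b y hY
  exact ⟨X, a, o, h1, h2⟩

end

end Groth.Agent.Lib.Homog
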