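import Groth.Agent.Lib.GrpQ.FlatHom
import Groth.Agent.Lib.GrpSch.GeomPoints
import Groth.Agent.Lib.GrpSch.Orbit
import Groth.Agent.Lib.Flat55.FlatDescend

/-!
Equivariant morphisms to reduced transitive spaces.
-/

set_option autoImplicit false

universe u

open CategoryTheory Limits MonoidalCategory CartesianMonoidalCategory MonObj AlgebraicGeometry

namespace Groth.Agent.Lib.Homog

/-- A morphism of finite type to a nonempty reduced Noetherian scheme is flat over a nonempty open. -/
theorem exists_flat_restrict {X Y : Scheme.{u}} [IsReduced Y] [IsNoetherian Y] [Nonempty Y] (f : X ⟶ Y)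
    [LocallyOfFiniteType f] [QuasiCompact f] : ∃ W : Y.Opens, (W : Set Y).Nonempty ∧ Flat (f ∣_ W) := by
  obtain ⟨y⟩ := ‹Nonempty Y›
  let V : Y.Opens :=
    ⟨(⋃₀ (irreducibleComponents Y \ {irreducibleComponent y}))ᶜ, by
      rw [Set.sUnion_eq_biUnion, isOpen_compl_iff]
      exact TopologicalSpace.NoetherianSpace.finite_irreducibleComponents.sdiff.isClosed_biUnion
        fun W hW ↦ isClosed_of_mem_irreducibleComponents W hW.1⟩
  have hV : closure (V : Set Y) = irreducibleComponent y :=
    closure_sUnion_irreducibleComponents_sdiff_singleton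
      TopologicalSpace.NoetherianSpace.finite_irreducibleComponents
      _ (irreducibleComponent_mem_irreducibleComponents y)
  have : AlgebraicGeometry.IsIntegral (V : Scheme.{u}) :=
    have : IrreducibleSpace (V : Scheme.{u}) := isIrreducible_iff_irreducibleSpace.mp
      (isIrreducible_iff_closure.mp (hV ▸ isIrreducible_irreducibleComponent))
    isIntegral_of_irreducibleSpace_of_isReduced _
  have : LocallyOfFiniteType (f ∣_ V) :=
    MorphismProperty.of_isPullback (isPullback_morphismRestrict f V).flip inferInstance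
  have : QuasiCompact (f ∣_ V) := MorphismProperty.of_isPullback (isPullback_morphismRestrict f V).flip inferInstance
  obtain ⟨A, u, hu, ⟨a, -⟩, hflat⟩ := H47.GenericFlat.exists_flat_affine (f ∣_ V)
  let v : Spec A ⟶ Y := u ≫ V.ι
  have hv : Flat (pullback.snd f v) := by
    have sq : IsPullback (pullback.snd (f ∣_ V) u) (pullback.fst (f ∣_ V) u ≫ (f ⁻¹ᵁ V).ι) v f :=
      (IsPullback.of_hasPullback (f ∣_ V) u).flip.paste_vert (isPullback_morphismRestrict f V)
    rw [← sq.flip.isoPullback_inv_snd]
    infer_instance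
  have : MorphismProperty.RespectsIso (@Flat : MorphismProperty Scheme.{u}) :=
    MorphismProperty.IsStableUnderBaseChange.respectsIso
  exact ⟨v.opensRange, ⟨v a, a, rfl⟩,
    (MorphismProperty.arrow_mk_iso_iff _ (morphismRestrictOpensRange f v)).2 hv⟩

variable {k K : Type u} [Field k] [Field K] [Algebra k K] [IsAlgClosed K]
  {G X Y : Over (Spec (CommRingCat.of k))} [GrpObj G]
  [LocallyOfFiniteType G.hom] [QuasiCompact G.hom] [LocallyOfFiniteType X.hom] [QuasiCompact X.hom]
  [LocallyOfFiniteType Y.hom] [QuasiCompact Y.hom]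

/-- An equivariant morphism to a reduced space with transitive action on geometric points is faithfully flat. -/
theorem flat_surjective_of_transitive [Nonempty X.left] [IsReduced Y.left] (a : AlgGrp.Action G X)
    (b : AlgGrp.Action G Y) (f : X ⟶ Y) (hf : (G ◁ f) ≫ b.act = a.act ≫ f)
    (htr : ∀ y y' : GrpSch.geomPoint k K ⟶ Y, ∃ g : GrpSch.geomPoint k K ⟶ G, lift g y ≫ b.act = y') :
    Flat f.left ∧ Surjective f.left := by
  have : IsLocallyNoetherian Y.left := LocallyOfFiniteType.isLocallyNoetherian Y.hom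
  have : CompactSpace Y.left := QuasiCompact.compactSpace_of_compactSpace Y.hom
  have : IsNoetherian Y.left := ⟨⟩
  have : IsLocallyNoetherian X.left := LocallyOfFiniteType.isLocallyNoetherian X.hom
  have : CompactSpace X.left := QuasiCompact.compactSpace_of_compactSpace X.hom
  have : IsNoetherian X.left := ⟨⟩
  have : JacobsonSpace X.left := LocallyOfFiniteType.jacobsonSpace X.hom
  have : JacobsonSpace Y.left := LocallyOfFiniteType.jacobsonSpace Y.hom
  have : LocallyOfFiniteType f.left := GrpQ.locallyOfFiniteType_left f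
  have : QuasiCompact (f.left ≫ Y.hom) := by rw [Over.w]; infer_instance
  have : QuasiCompact f.left := QuasiCompact.of_comp f.left Y.hom
  let s : ↥(GrpSch.geomPoint k K).left := IsLocalRing.closedPoint K
  have hpt : ∀ {T : Over (Spec (CommRingCat.of k))} (g : T ⟶ G) (x : T ⟶ X),
      (lift g x ≫ a.act) ≫ f = lift g (x ≫ f) ≫ b.act := fun g x => by
    rw [Category.assoc, ← hf, lift_whiskerLeft_assoc]
  have hsurj : Surjective f.left := by
    refine GrpSch.surjective_of_closedPoints f.left fun y hy => ?_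
    obtain ⟨q, hq⟩ := GrpSch.exists_geomPoint_apply_eq (K := K) y hy
    obtain ⟨x₀⟩ := ‹Nonempty X.left›
    obtain ⟨x, -, hx⟩ := nonempty_inter_closedPoints (X := X.left) ⟨x₀, Set.mem_univ _⟩ isClosed_univ.isLocallyClosed
    obtain ⟨p, -⟩ := GrpSch.exists_geomPoint_apply_eq (K := K) x hx
    obtain ⟨g, hg⟩ := htr (p ≫ f) q
    exact ⟨(lift g p ≫ a.act).left s, by rw [← Scheme.Hom.comp_apply, ← Over.comp_left, hpt, hg, hq s]⟩
  refine ⟨?_, hsurj⟩
  have : Nonempty Y.left := ⟨f.left ‹Nonempty X.left›.some⟩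
  obtain ⟨V, ⟨v₀, hv₀⟩, hV⟩ := exists_flat_restrict f.left
  obtain ⟨v, hvV, hv⟩ := nonempty_inter_closedPoints (X := Y.left) ⟨v₀, hv₀⟩ V.2.isLocallyClosed
  obtain ⟨q, hq⟩ := GrpSch.exists_geomPoint_apply_eq (K := K) v hv
  let W : Over (Spec (CommRingCat.of k)) := Over.mk ((f.left ⁻¹ᵁ V).ι ≫ X.hom)
  let j : W ⟶ X := Over.homMk (f.left ⁻¹ᵁ V).ι rfl
  have hj : IsOpenImmersion j.left := inferInstanceAs (IsOpenImmersion (f.left ⁻¹ᵁ V).ι)
  have : Flat G.hom := inferInstance
  have hja : Flat a.act.left := GrpSch.act_left_of (P := @Flat) a ‹_›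
  have hjb : Flat b.act.left := GrpSch.act_left_of (P := @Flat) b ‹_›
  let m : G ⊗ W ⟶ X := (G ◁ j) ≫ a.act
  have : Flat (G ◁ j).left := GrpSch.whiskerLeft_left_of (P := @Flat) _ _ inferInstance
  have hmf : Flat m.left := by
    change Flat ((G ◁ j).left ≫ a.act.left)
    infer_instance
  have : LocallyOfFiniteType W.hom := inferInstanceAs (LocallyOfFiniteType ((f.left ⁻¹ᵁ V).ι ≫ X.hom))
  have : QuasiCompact j.left := inferInstanceAs (QuasiCompact (f.left ⁻¹ᵁ V).ι)
  have : QuasiCompact W.hom := by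
    rw [← Over.w j]; infer_instance
  have : LocallyOfFiniteType (G ⊗ W).hom := by
    rw [← Over.w (snd G W)]
    have : LocallyOfFiniteType (snd G W).left := GrpSch.snd_left_of (P := @LocallyOfFiniteType) _ ‹_›
    infer_instance
  have : QuasiCompact (G ⊗ W).hom := by
    rw [← Over.w (snd G W)]
    have : QuasiCompact (snd G W).left := GrpSch.snd_left_of (P := @QuasiCompact) _ ‹_›
    infer_instance
  have : LocallyOfFiniteType m.left := GrpQ.locallyOfFiniteType_left m
  have : QuasiCompact (m.left ≫ X.hom) := by rw [Over.w]; infer_instance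
  have : QuasiCompact m.left := QuasiCompact.of_comp m.left X.hom
  have hms : Surjective m.left := by
    refine GrpSch.surjective_of_closedPoints m.left fun x hx => ?_
    obtain ⟨p, hp⟩ := GrpSch.exists_geomPoint_apply_eq (K := K) x hx
    obtain ⟨g, hg⟩ := htr (p ≫ f) q
    let w := lift g p ≫ a.act
    have hr : Set.range w.left ⊆ Set.range j.left := by
      rintro _ ⟨t, rfl⟩
      refine ⟨⟨w.left t, ?_⟩, rfl⟩
      change f.left (w.left t) ∈ V
      rw [← Scheme.Hom.comp_apply, ← Over.comp_left, hpt, hg, hq t]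
      exact hvV
    let w' : GrpSch.geomPoint k K ⟶ W := Over.homMk (IsOpenImmersion.lift j.left w.left hr) (by
      change _ ≫ j.left ≫ X.hom = _
      rw [IsOpenImmersion.lift_fac_assoc]
      exact Over.w w)
    have hw' : w' ≫ j = w := Over.OverMorphism.ext (IsOpenImmersion.lift_fac _ _ _)
    refine ⟨(lift g⁻¹ w').left s, ?_⟩
    rw [← Scheme.Hom.comp_apply, ← Over.comp_left,
      show lift g⁻¹ w' ≫ m = p by rw [lift_whiskerLeft_assoc, hw', GrpSch.act_inv_act], hp s]
  have hjf : Flat (j ≫ f).left := by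
    change Flat ((f.left ⁻¹ᵁ V).ι ≫ f.left)
    rw [← morphismRestrict_ι]
    infer_instance
  have : Flat (G ◁ (j ≫ f)).left := GrpSch.whiskerLeft_left_of (P := @Flat) _ _ hjf
  have : Flat (m.left ≫ f.left) := by
    rw [← Over.comp_left, show m ≫ f = (G ◁ (j ≫ f)) ≫ b.act by
      rw [MonoidalCategory.whiskerLeft_comp, Category.assoc (G ◁ j) (G ◁ f), hf, Category.assoc]]
    change Flat ((G ◁ (j ≫ f)).left ≫ b.act.left)
    infer_instance
  exact Flat55.FlatDescend.flat_of_comp m.left f.left

end Groth.Agent.Lib.Homog
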