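import Groth.Agent.Lib.Homog.Basic
import Groth.Agent.Lib.GrpQ.Image
import Groth.Agent.Lib.GrpSch.EqvHom
import Groth.Agent.Lib.ActSep.FlatTransl

/-!
The orbit of a rational point as a scheme; it is the quotient by the isotropy group for a reduced group.
-/

set_option autoImplicit false

universe u

open CategoryTheory Limits MonoidalCategory CartesianMonoidalCategory MonObj AlgebraicGeometry
open Groth.Agent.Lib.GrpQ

namespace Groth.Agent.Lib.Homog

variable {k : Type u} [Field k] {G X : Over (Spec (CommRingCat.of k))} [GrpObj G]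
  [LocallyOfFiniteType G.hom] [QuasiCompact G.hom] [LocallyOfFiniteType X.hom] [QuasiCompact X.hom]

/-- The orbit with its scheme structure. -/
theorem exists_orbit (a : AlgGrp.Action G X) (o : 𝟙_ (Over (Spec (CommRingCat.of k))) ⟶ X) :
    ∃ (Z : Over (Spec (CommRingCat.of k))) (b : AlgGrp.Action G Z) (y : 𝟙_ (Over (Spec (CommRingCat.of k))) ⟶ Z)
      (j : Z ⟶ X), IsImmersion j.left ∧ LocallyOfFiniteType Z.hom ∧ (G ◁ j) ≫ a.act = b.act ≫ j ∧ y ≫ j = o ∧
        Surjective (b.orbitMap y).left ∧ Set.range j.left = Set.range (a.orbitMap o).left ∧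
        (AlgebraicGeometry.IsReduced G.left → AlgebraicGeometry.IsReduced Z.left) := by
  have hqc := GrpSch.quasiCompact_orbitMap a o
  let φ := a.orbitMap o
  let C : Over (Spec (CommRingCat.of k)) := Over.mk (φ.left.imageι ≫ X.hom)
  let jC : C ⟶ X := Over.homMk φ.left.imageι rfl
  let d : G ⟶ C := Over.homMk φ.left.toImage (by
    change φ.left.toImage ≫ φ.left.imageι ≫ X.hom = _
    rw [← Category.assoc, Scheme.Hom.toImage_imageι, Over.w])
  have hdj : d ≫ jC = φ := Over.OverMorphism.ext φ.left.toImage_imageι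
  have : IsClosedImmersion jC.left := inferInstanceAs (IsClosedImmersion φ.left.imageι)
  have hd : IsSchemeTheoreticallyDominant d.left := Image.std_toImage φ.left
  have : QuasiCompact d.left := inferInstanceAs (QuasiCompact φ.left.toImage)
  have : Flat (snd G C).left := GrpSch.snd_left_of (P := @Flat) _ (GrpSch.flat_of_isField (Field.toIsField k) G.hom)
  have : IsSchemeTheoreticallyDominant (G ◁ d).left :=
    .of_isPullback (GrpSch.isPullback_whiskerLeft G d).flip
  obtain ⟨ψ, hψ⟩ := GrpSch.exists_factor_of_std (G ◁ d) ((G ◁ jC) ≫ a.act) jC (μ[G] ≫ d) (by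
    rw [← MonoidalCategory.whiskerLeft_comp_assoc, hdj, GrpSch.orbit_equivariant, Category.assoc, hdj])
  -- the open orbit
  obtain ⟨U, hUo, hU⟩ := GrpSch.exists_open_orbit_eq a o
  let W : C.left.Opens := jC.left ⁻¹ᵁ ⟨U, hUo⟩
  let Z : Over (Spec (CommRingCat.of k)) := Over.mk (W.ι ≫ C.hom)
  let z : Z ⟶ C := Over.homMk W.ι rfl
  let j : Z ⟶ X := z ≫ jC
  have : IsOpenImmersion z.left := inferInstanceAs (IsOpenImmersion W.ι)
  have hji : IsImmersion j.left := by
    change IsImmersion (z.left ≫ jC.left)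
    infer_instance
  have : Mono j := mono_of_left j
  have hd' : IsDominant d.left := inferInstance
  have hrC : Set.range jC.left = closure (Set.range φ.left) := by
    apply subset_antisymm
    · rintro _ ⟨c, rfl⟩
      refine closure_mono (s := jC.left '' Set.range d.left) ?_ (image_closure_subset_closure_image
        jC.left.continuous ⟨c, d.left.denseRange c, rfl⟩)
      rintro _ ⟨_, ⟨g, rfl⟩, rfl⟩
      refine ⟨g, ?_⟩
      rw [← hdj, Over.comp_left, Scheme.Hom.comp_apply]
    · refine closure_minimal ?_ jC.left.isClosedEmbedding.isClosed_range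
      rintro _ ⟨g, rfl⟩
      refine ⟨d.left g, ?_⟩
      rw [← hdj, Over.comp_left, Scheme.Hom.comp_apply]
  have hrj : Set.range j.left = Set.range φ.left := by
    rw [hU]
    ext x
    constructor
    · rintro ⟨w, rfl⟩
      exact ⟨w.2, hrC ▸ ⟨_, rfl⟩⟩
    · rintro ⟨hxU, hxC⟩
      rw [← hrC] at hxC
      obtain ⟨c, rfl⟩ := hxC
      exact ⟨⟨c, hxU⟩, rfl⟩
  have hmemW : ∀ c : C.left, jC.left c ∈ Set.range φ.left → c ∈ Set.range z.left := fun c hc =>
    ⟨⟨c, (hU ▸ hc).1⟩, rfl⟩
  have hzr : Set.range d.left ⊆ Set.range z.left := by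
    rintro _ ⟨g, rfl⟩
    refine hmemW _ ⟨g, ?_⟩
    rw [← hdj, Over.comp_left, Scheme.Hom.comp_apply]
  let φ' : G ⟶ Z := Over.homMk (IsOpenImmersion.lift z.left d.left hzr) (by
    change _ ≫ z.left ≫ C.hom = _
    rw [IsOpenImmersion.lift_fac_assoc, Over.w])
  have hφ'z : φ' ≫ z = d := Over.OverMorphism.ext (IsOpenImmersion.lift_fac _ _ _)
  have hφ' : φ' ≫ j = φ := by rw [← Category.assoc, hφ'z, hdj]
  have hst := (GrpSch.isStableSet_iff a _).1 (GrpSch.isStableSet_range_orbit a o)
  have hbr : Set.range ((G ◁ z) ≫ ψ).left ⊆ Set.range z.left := by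
    rintro _ ⟨p, rfl⟩
    refine hmemW _ ?_
    rw [← Scheme.Hom.comp_apply, ← Over.comp_left, Category.assoc, hψ, ← MonoidalCategory.whiskerLeft_comp_assoc,
      Over.comp_left, Scheme.Hom.comp_apply]
    apply hst
    rw [← Scheme.Hom.comp_apply, ← Over.comp_left, whiskerLeft_snd, Over.comp_left, Scheme.Hom.comp_apply, ← hrj]
    exact ⟨_, rfl⟩
  let bact : G ⊗ Z ⟶ Z := Over.homMk (IsOpenImmersion.lift z.left ((G ◁ z) ≫ ψ).left hbr) (by
    change _ ≫ z.left ≫ C.hom = _
    rw [IsOpenImmersion.lift_fac_assoc, Over.w])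
  have hbz : bact ≫ z = (G ◁ z) ≫ ψ := Over.OverMorphism.ext (IsOpenImmersion.lift_fac _ _ _)
  have hb : bact ≫ j = (G ◁ j) ≫ a.act := by
    rw [← Category.assoc, hbz, Category.assoc, hψ, ← MonoidalCategory.whiskerLeft_comp_assoc]
  let b : AlgGrp.Action G Z := GrpSch.actionMk bact
    (fun T x => by
      rw [← cancel_mono j, Category.assoc, hb, lift_whiskerLeft_assoc, GrpSch.act_one])
    (fun T g h x => by
      rw [← cancel_mono j, Category.assoc, Category.assoc, hb, lift_whiskerLeft_assoc, lift_whiskerLeft_assoc,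
        Category.assoc, hb, lift_whiskerLeft_assoc, GrpSch.act_mul])
  let y := η[G] ≫ φ'
  have hy : y ≫ j = o := by rw [Category.assoc, hφ', GrpSch.η_orbit]
  have horb : b.orbitMap y = φ' := by
    rw [← cancel_mono j, hφ', AlgGrp.Action.orbitMap, Category.assoc]
    change lift (𝟙 G) (toUnit G ≫ y) ≫ bact ≫ j = _
    rw [hb, lift_whiskerLeft_assoc, Category.assoc, hy]
    rfl
  refine ⟨Z, b, y, j, hji, ?_, hb.symm, hy, ?_, hrj, fun hG => ?_⟩
  · rw [← Over.w j]; infer_instance
  · rw [horb]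
    refine ⟨fun w => ?_⟩
    obtain ⟨g, hg⟩ := hrj.le ⟨w, rfl⟩
    refine ⟨g, j.left.isEmbedding.injective ?_⟩
    rw [← Scheme.Hom.comp_apply, ← Over.comp_left, hφ', hg]
  · have : AlgebraicGeometry.IsReduced C.left := IsSchemeTheoreticallyDominant.isReduced d.left
    exact isReduced_of_isOpenImmersion z.left

omit [QuasiCompact X.hom] [LocallyOfFiniteType G.hom] [QuasiCompact G.hom] [LocallyOfFiniteType X.hom] in
/-- A surjective orbit map onto a reduced scheme is flat. -/
theorem flat_orbitMap [AlgebraicGeometry.IsReduced X.left] (a : AlgGrp.Action G X)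
    (o : 𝟙_ (Over (Spec (CommRingCat.of k))) ⟶ X) [Surjective (a.orbitMap o).left] : Flat (a.orbitMap o).left := by
  have : Flat G.hom := GrpSch.flat_of_isField (Field.toIsField k) G.hom
  let x₀ := o.left (IsLocalRing.closedPoint k)
  have hirr := isIrreducible_irreducibleComponent (x := x₀)
  let ξ := hirr.genericPoint
  have hξ : IsGenericPoint ξ (closure (irreducibleComponent x₀)) := hirr.isGenericPoint_genericPoint_closure
  rw [isClosed_irreducibleComponent.closure_eq] at hξ
  have hξ' : closure {ξ} ∈ irreducibleComponents X.left := by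
    rw [hξ.def]; exact irreducibleComponent_mem_irreducibleComponents x₀
  obtain ⟨g, hg⟩ := (a.orbitMap o).left.surjective ξ
  refine Lib.ActSep.flat_of_flat_at_point (a.orbitMap o) (Lib.ActSep.exists_iso_orbit a o) g ?_
  have hF := isField_stalk_of_closure_mem_irreducibleComponents _ _ hξ'
  rw [← hg] at hF
  let _ := hF.toField
  let _ := ((a.orbitMap o).left.stalkMap g).hom.toAlgebra
  exact Module.Flat.of_free

/-- The quotient by an isotropy group of a reduced group is the orbit. -/
theorem exists_quotient_isotropy [AlgebraicGeometry.IsReduced G.left] (a : AlgGrp.Action G X)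
    (o : 𝟙_ (Over (Spec (CommRingCat.of k))) ⟶ X) {Go : Over (Spec (CommRingCat.of k))} [GrpObj Go] {i : Go ⟶ G}
    (hGo : IsPullback i (toUnit Go) (a.orbitMap o) o) :
    ∃ (Z : Over (Spec (CommRingCat.of k))) (b : AlgGrp.Action G Z) (y : 𝟙_ (Over (Spec (CommRingCat.of k))) ⟶ Z)
      (j : Z ⟶ X), AGF.IsQuotient i Z b y ∧ (G ◁ j) ≫ a.act = b.act ≫ j ∧ y ≫ j = o ∧ IsImmersion j.left ∧
        AlgebraicGeometry.IsReduced Z.left ∧ Set.range j.left = Set.range (a.orbitMap o).left := by
  obtain ⟨Z, b, y, j, hj, hlft, hjb, hy, hs, hr, hred⟩ := exists_orbit a o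
  have hZred := hred ‹_›
  have : Mono j := mono_of_left j
  have horb : b.orbitMap y ≫ j = a.orbitMap o := by
    rw [AlgGrp.Action.orbitMap, Category.assoc, ← hjb, lift_whiskerLeft_assoc, Category.assoc, hy]
    rfl
  refine ⟨Z, b, y, j, ⟨hlft, flat_orbitMap b y, hs, isPullback_pair ⟨⟨?_⟩, ⟨PullbackCone.IsLimit.mk _
    (fun s => hGo.lift s.fst (toUnit _) ?_) (fun s => hGo.lift_fst _ _ _) (fun s => toUnit_unique _ _)
    (fun s m h1 _ => hGo.hom_ext (by rw [hGo.lift_fst]; exact h1) (toUnit_unique _ _))⟩⟩⟩, hjb, hy, hj, hZred, hr⟩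
  · rw [← cancel_mono j, Category.assoc, horb, hGo.w, Category.assoc, hy]
  · rw [← horb, reassoc_of% s.condition, hy, toUnit_unique s.snd (toUnit _)]

end Groth.Agent.Lib.Homog
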