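import Groth.Agent.Lib.Homog.GrassAct
import Groth.Agent.Lib.Homog.Orbit
import Groth.Agent.Lib.GrpQ.AffineQuot
import Groth.Agent.Lib.GrpSch.SmoothReduced
import Groth.Agent.H66.Chevalley
import Mathlib.RingTheory.Smooth.Basic

/-!
Quotients of smooth affine groups by closed subgroups.
-/

set_option autoImplicit false

universe u

open CategoryTheory Limits MonoidalCategory CartesianMonoidalCategory MonObj AlgebraicGeometry
open WithConv TensorProduct
open Groth.Agent.Lib.RedPts.Points
open Groth.Agent.Lib.GrpQ Groth.Agent.Lib.GrpQ.AffQ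

namespace Groth.Agent.Lib.Homog

noncomputable section

attribute [local instance] baseAlgebra

variable {k : Type u} [Field k] {A C : Type u} [CommRing A] [HopfAlgebra k A] [CommRing C] [HopfAlgebra k C]

/-- The ideal of a closed subgroup of an affine group. -/
theorem exists_ideal (N : Over (Spec (CommRingCat.of k))) [GrpObj N] (i : N ⟶ sp k A) [IsMonHom i]
    [IsClosedImmersion i.left] :
    ∃ (I : Ideal A) (_ : I.IsHopfIdeal k),
      ∀ (T : Over (Spec (CommRingCat.of k))) (x : T ⟶ sp k A),
        (∃ n : T ⟶ N, n ≫ i = x) ↔ ∀ a ∈ I, algHomOf x a = 0 := by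
  have : IsAffine N.left := isAffine_of_isAffineHom i.left
  obtain ⟨C, _, _, e, he⟩ := H1.Hopf.exists_iso N
  let j : sp k C ⟶ sp k A := e.inv ≫ i
  have : IsClosedImmersion j.left := by
    change IsClosedImmersion (e.inv.left ≫ i.left)
    infer_instance
  let f : A →ₐ[k] C := (Spec.mapMulEquiv (R := k) (S := A) (T := C)).symm j |>.ofConv
  have hj : j.left = Spec.map (CommRingCat.ofHom f.toRingHom) := by
    conv_lhs => rw [← (Spec.mapMulEquiv (R := k) (S := A) (T := C)).apply_symm_apply j]
    rfl
  have hf : Function.Surjective f := by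
    obtain ⟨-, h⟩ := IsClosedImmersion.isAffine_surjective_of_isAffine j.left
    rw [hj] at h
    intro c
    have h' : Function.Surjective (Spec.map (CommRingCat.ofHom f.toRingHom)).appTop := h
    obtain ⟨y, hy⟩ := h' ((Scheme.ΓSpecIso (CommRingCat.of C)).inv c)
    refine ⟨(Scheme.ΓSpecIso (CommRingCat.of A)).hom y, ?_⟩
    have h2 := ConcreteCategory.congr_hom (Scheme.ΓSpecIso_naturality (CommRingCat.ofHom f.toRingHom)) y
    simp only [ConcreteCategory.comp_apply] at h2
    rw [hy] at h2
    simpa using h2.symm
  -- composition with `f` respects convolution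
  have hmul : ∀ (T : Type u) [CommRing T] [Algebra k T] (h h' : WithConv (C →ₐ[k] T)),
      toConv ((h * h').ofConv.comp f) = toConv (h.ofConv.comp f) * toConv (h'.ofConv.comp f) := by
    intro T _ _ h h'
    have e1 : ∀ x : WithConv (C →ₐ[k] T),
        Spec.mapMulEquiv (toConv (x.ofConv.comp f)) = Spec.mapMulEquiv x ≫ j := fun x => by
      ext1
      rw [Over.comp_left, hj]
      change Spec.map _ = Spec.map _ ≫ Spec.map _
      rw [← Spec.map_comp]
      rfl
    apply (Spec.mapMulEquiv (R := k) (S := A) (T := T)).injective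
    rw [map_mul, e1, e1, e1, map_mul, MonObj.mul_comp]
  have hone : ∀ (T : Type u) [CommRing T] [Algebra k T],
      toConv ((1 : WithConv (C →ₐ[k] T)).ofConv.comp f) = 1 := by
    intro T _ _
    apply (Spec.mapMulEquiv (R := k) (S := A) (T := T)).injective
    rw [map_one]
    have e1 : Spec.mapMulEquiv (toConv ((1 : WithConv (C →ₐ[k] T)).ofConv.comp f)) =
        Spec.mapMulEquiv (1 : WithConv (C →ₐ[k] T)) ≫ j := by
      ext1
      rw [Over.comp_left, hj]
      change Spec.map _ = Spec.map _ ≫ Spec.map _
      rw [← Spec.map_comp]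
      rfl
    rw [e1, map_one, MonObj.one_comp]
  let I : Ideal A := RingHom.ker f
  have hε : ∀ a, CoalgebraStruct.counit (R := k) (f a) = CoalgebraStruct.counit (R := k) a := fun a => by
    have := congrArg (fun x : WithConv (A →ₐ[k] k) => x a) (hone k)
    simpa using this
  have hΔ : ∀ a, CoalgebraStruct.comul (R := k) (f a) =
      TensorProduct.map f.toLinearMap f.toLinearMap (CoalgebraStruct.comul (R := k) a) := fun a => by
    let iL : WithConv (C →ₐ[k] C ⊗[k] C) := toConv Algebra.TensorProduct.includeLeft
    let iR : WithConv (C →ₐ[k] C ⊗[k] C) := toConv Algebra.TensorProduct.includeRight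
    have h := congrArg (fun x : WithConv (A →ₐ[k] C ⊗[k] C) => x a) (hmul _ iL iR)
    simp only at h
    rw [AlgHom.convMul_apply] at h
    change (iL * iR) (f a) = _ at h
    rw [AlgHom.convMul_apply] at h
    have e1 : ∀ z : C ⊗[k] C, Algebra.TensorProduct.lift iL.ofConv iR.ofConv (fun _ _ => Commute.all _ _) z = z := by
      intro z
      induction z using TensorProduct.induction_on with
      | zero => simp
      | add r s hr hs => simp only [map_add, hr, hs]
      | tmul r s => simp [iL, iR]
    rw [e1] at h
    refine h.trans ?_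
    induction CoalgebraStruct.comul (R := k) a using TensorProduct.induction_on with
    | zero => simp
    | add r s hr hs => simp only [map_add, hr, hs]
    | tmul r s => simp [iL, iR]
  have hS : ∀ a, f (HopfAlgebraStruct.antipode (R := k) a) = HopfAlgebraStruct.antipode (R := k) (f a) := fun a => by
    have h1 : toConv (f.comp (HopfAlgebra.antipodeAlgHom k A)) * toConv f = (1 : WithConv (A →ₐ[k] C)) := by
      have h := AlgHom.comp_convMul_distrib f (toConv (HopfAlgebra.antipodeAlgHom k A)) (toConv (AlgHom.id k A))
      rw [AlgHom.antipode_id_cancel] at h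
      apply WithConv.ofConv_injective
      simp only [AlgHom.comp_id] at h
      rw [← h]
      ext x
      simp
    have h2 : toConv ((HopfAlgebra.antipodeAlgHom k C).comp f) * toConv f = (1 : WithConv (A →ₐ[k] C)) := by
      have h := hmul C (toConv (HopfAlgebra.antipodeAlgHom k C)) (toConv (AlgHom.id k C))
      rw [AlgHom.antipode_id_cancel, hone] at h
      exact h.symm
    have h3 := mul_right_cancel (h1.trans h2.symm)
    exact AlgHom.congr_fun (congrArg WithConv.ofConv h3) a
  have hI : I.IsHopfIdeal k := by
    have hco : (I.restrictScalars k).IsCoideal := by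
      refine ⟨fun x hx => ?_, fun x hx => ?_⟩
      · rw [← hε, show f x = 0 from hx, map_zero]
      · let fb : A ⧸ I.restrictScalars k →ₗ[k] C := Submodule.liftQ _ f.toLinearMap fun a ha => ha
        have hfb : Function.Injective fb := by
          refine LinearMap.ker_eq_bot.1 (LinearMap.ker_eq_bot'.2 fun y hy => ?_)
          obtain ⟨a, rfl⟩ := Submodule.Quotient.mk_surjective _ y
          exact (Submodule.Quotient.mk_eq_zero _).2 hy
        have hinj : Function.Injective (TensorProduct.map fb fb) := by
          rw [← LinearMap.rTensor_comp_lTensor, LinearMap.coe_comp]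
          exact (Module.Flat.rTensor_preserves_injective_linearMap _ hfb).comp
            (Module.Flat.lTensor_preserves_injective_linearMap _ hfb)
        apply hinj
        rw [map_zero]
        have h0 := hΔ x
        rw [show f x = 0 from hx, map_zero] at h0
        rw [h0]
        generalize CoalgebraStruct.comul (R := k) x = z
        induction z using TensorProduct.induction_on with
        | zero => simp
        | add r s hr hs => simp only [map_add, hr, hs]
        | tmul r s => rfl
    exact { toIsCoideal := hco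
            antipode_mem := fun x hx => by
              rw [RingHom.mem_ker, hS, show f x = 0 from hx, map_zero] }
  refine ⟨I, hI, fun T x => ?_⟩
  constructor
  · rintro ⟨n, rfl⟩ a ha
    rw [show n ≫ i = (n ≫ e.hom) ≫ j by simp [j], algHomOf_comp _ j f hj, show f a = 0 from ha, map_zero]
  · intro h
    let y : T ⟶ sp k C := pointOf (AlgHom.liftOfSurjective f hf (algHomOf x) h)
    refine ⟨y ≫ e.inv, ?_⟩
    apply algHomOf_injective
    ext a
    rw [show (y ≫ e.inv) ≫ i = y ≫ j by simp [j], algHomOf_comp _ j f hj, algHomOf_pointOf]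
    exact AlgHom.congr_fun (AlgHom.liftOfSurjective_comp f hf (algHomOf x) h) a


/-- The coordinate ring of the general linear group is smooth. -/
theorem smooth_GLn (n : ℕ) : Algebra.Smooth k (CoordGrp.GLn n k) := by
  refine ⟨Algebra.FormallySmooth.of_comp_surjective fun C _ _ I hI f => ?_, ?_⟩
  · choose M hM using fun p : Fin n × Fin n => Ideal.Quotient.mkₐ_surjective k I (f (CoordGrp.GLn.X p.1 p.2))
    let P : Matrix (Fin n) (Fin n) C := Matrix.of fun i j => M (i, j)
    have hP : (Ideal.Quotient.mkₐ k I) P.det = f CoordGrp.GLn.det := by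
      rw [CoordGrp.GLn.det_eq, AlgHom.map_det, AlgHom.map_det]
      congr 1
      ext i j
      exact hM (i, j)
    have hu : IsUnit P.det := by
      have h : IsUnit (Ideal.Quotient.mk I P.det) := by
        rw [show Ideal.Quotient.mk I P.det = f CoordGrp.GLn.det from hP]
        exact (IsUnit.of_mul_eq_one _ CoordGrp.GLn.det_mul_Dinv).map f
      exact (IsNilpotent.isUnit_quotient_mk_iff ⟨2, hI⟩).1 h
    refine ⟨CoordGrp.GLn.pt n k P ↑hu.unit⁻¹ hu.mul_val_inv, ?_⟩
    refine CoordGrp.GLn.algHom_ext (fun i j => ?_) ?_
    · simp only [AlgHom.comp_apply, CoordGrp.GLn.pt_X]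
      exact hM (i, j)
    · have h1 := congrArg f (CoordGrp.GLn.det_mul_Dinv (n := n) (k := k))
      have h2 : (Ideal.Quotient.mkₐ k I) (P.det * ↑hu.unit⁻¹) = 1 := by rw [hu.mul_val_inv, map_one]
      rw [map_mul, map_one] at h1
      rw [map_mul, hP] at h2
      simp only [AlgHom.comp_apply, CoordGrp.GLn.pt_Dinv]
      exact left_inv_eq_right_inv (by rwa [mul_comm] at h2) h1
  · have : Algebra.FinitePresentation k (CoordGrp.GLb n k) :=
      inferInstanceAs (Algebra.FinitePresentation k (MvPolynomial (CoordGrp.GLPoly.Idx n) k))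
    exact Algebra.FinitePresentation.quotient (Submodule.fg_span (Set.finite_singleton _))

theorem appTop_algHomOf {T : Over (Spec (CommRingCat.of k))} (t : T ⟶ sp k A) (x : A) :
    t.left.appTop (algHomOf (𝟙 (sp k A)) x) = algHomOf t x :=
  (ringHomOf_comp t.left (Over.Hom.left (𝟙 (sp k A))) x).symm.trans
    (congrArg (fun z => ringHomOf z x) (Category.comp_id _))

/-- The representation of the group of a multiplicative matrix. -/
def repOfIsMat {N : ℕ} (P : Matrix (Fin N) (Fin N) A) (hP : H66.MatComod.IsMat k P) :
    GrpQ.RepMat.Rep (sp k A) N where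
  P := P.map fun x => algHomOf (𝟙 (sp k A)) x
  mul {T} g h := by
    ext i j
    simp only [GrpQ.RepMat.pbM, Matrix.map_apply, Matrix.mul_apply, appTop_algHomOf]
    rw [algHomOf_mul, hP.1, map_sum]
    exact Finset.sum_congr rfl fun l _ => by rw [Algebra.TensorProduct.lift_tmul]
  one {T} := by
    ext i j
    simp only [GrpQ.RepMat.pbM, Matrix.map_apply, appTop_algHomOf]
    rw [algHomOf_one, hP.2, Matrix.one_apply]
    split_ifs <;> simp

theorem repOfIsMat_val {N : ℕ} (P : Matrix (Fin N) (Fin N) A) (hP : H66.MatComod.IsMat k P) (B : Type u)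
    [CommRing B] [Algebra k B] (g : VecGrp.pt k B ⟶ sp k A) (i j : Fin N) :
    (repOfIsMat P hP).val B g i j = (Scheme.ΓSpecIso (CommRingCat.of B)).hom (algHomOf g (P i j)) := by
  change (Scheme.ΓSpecIso (CommRingCat.of B)).hom (g.left.appTop (algHomOf (𝟙 (sp k A)) (P i j))) = _
  exact congrArg _ (appTop_algHomOf g (P i j))

/-- The quotient of a smooth affine group by a closed subgroup. -/
theorem exists_quotient_smooth [Algebra.Smooth k A] (H : Over (Spec (CommRingCat.of k))) [GrpObj H]
    (i : H ⟶ sp k A) [IsMonHom i] [IsClosedImmersion i.left] :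
    ∃ (X : Over (Spec (CommRingCat.of k))) (a : AlgGrp.Action (sp k A) X)
      (o : 𝟙_ (Over (Spec (CommRingCat.of k))) ⟶ X), AGF.IsQuotient i X a o ∧ QuasiCompact X.hom := by
  classical
  obtain ⟨I, hI, hpts⟩ := exists_ideal H i
  obtain ⟨σ, _, _, P, d, s, hP, hPI⟩ := H66.Chevalley.exists_data (k := k) I
  let ε := Fintype.equivFin σ
  let P' : Matrix (Fin (Fintype.card σ)) (Fin (Fintype.card σ)) A := P.submatrix ε.symm ε.symm
  have hP' : H66.MatComod.IsMat k P' := by
    refine ⟨fun i j => ?_, fun i j => ?_⟩
    · rw [show P' i j = P (ε.symm i) (ε.symm j) from rfl, hP.1]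
      exact (ε.symm.sum_comp fun l => P (ε.symm i) l ⊗ₜ[k] P l (ε.symm j)).symm
    · rw [show P' i j = P (ε.symm i) (ε.symm j) from rfl, hP.2]
      simp [ε.symm.injective.eq_iff]
  let s' : Fin d ↪ Fin (Fintype.card σ) := s.trans ε.toEmbedding
  have hd : d ≤ Fintype.card σ := by simpa using Fintype.card_le_of_injective s s.injective
  have hsmooth : Smooth (sp k A).hom := by
    change Smooth (Spec.map (CommRingCat.ofHom (algebraMap k A)))
    rw [HasRingHomProperty.Spec_iff (P := @Smooth)]
    exact RingHom.smooth_algebraMap.2 ‹_›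
  have hmono : Mono i := mono_of_left i
  obtain ⟨X₀, a₀, o₀, _, _, _, hiso⟩ := GrassAct.exists_isotropy (repOfIsMat P' hP') s'
    (q := Fintype.card σ - d) (by omega) i inferInstance fun B _ _ g => by
      rw [hpts, show I = H66.Stab.blockIdeal P s from hPI.symm]
      refine (H66.Stab.kills_iff P s (algHomOf g)).trans ?_
      constructor
      · intro h l b hl
        rw [repOfIsMat_val]
        have := h (ε.symm l) b (fun ⟨c, hc⟩ => hl ⟨c, by simp [s', hc]⟩)
        rw [show P' l (s' b) = P (ε.symm l) (s b) by simp [P', s'], this, map_zero]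
      · intro h l b hl
        have := h (ε l) b (fun ⟨c, hc⟩ => hl ⟨c, ε.injective hc⟩)
        rw [repOfIsMat_val, show P' (ε l) (s' b) = P l (s b) by simp [P', s']] at this
        exact (ConcreteCategory.bijective_of_isIso (Scheme.ΓSpecIso (CommRingCat.of B)).hom).1
          (this.trans (map_zero _).symm)
  have : AlgebraicGeometry.IsReduced (sp k A).left := GrpSch.isReduced_of_smooth_field (sp k A).hom
  have : IsAffineHom (sp k A).hom := inferInstance
  obtain ⟨Z, b, y, j, hq, -, -, hj, -, -⟩ := exists_quotient_isotropy a₀ o₀ hiso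
  refine ⟨Z, b, y, hq, ?_⟩
  have hs := hq.2.2.1
  have : CompactSpace Z.left := ⟨by
    have h := isCompact_range (b.orbitMap y).left.continuous
    rwa [(b.orbitMap y).left.surjective.range_eq] at h⟩
  exact (quasiCompact_iff_compactSpace Z.hom).2 ‹_›

end

end Groth.Agent.Lib.Homog
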