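import Groth.Agent.Lib.Homog.GrassTrans
import Groth.Agent.Lib.GrassRep.AffinePoints
import Groth.Agent.Lib.GrassRep.Plucker
import Groth.Agent.Lib.GrpQ.RepMat
import Groth.Agent.Lib.GrpSch.Basic
import Groth.Agent.Lib.GrpSch.FreeRestr

/-!
The action of a group on a Grassmannian through a matrix representation; the isotropy group of a
coordinate subspace.
-/

set_option autoImplicit false

universe u

open CategoryTheory Limits MonoidalCategory CartesianMonoidalCategory MonObj AlgebraicGeometry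
open TensorProduct
open Groth.Agent.Lib.GrassRep

namespace Groth.Agent.Lib.Homog.GrassAct

noncomputable section

variable {k : Type u} [Field k] {G : Over (Spec (CommRingCat.of k))} [GrpObj G] {N : ℕ}
  (r : GrpQ.RepMat.Rep G N)

/-- The linear automorphism of a point of the group. -/
def auto (A : Type u) [CommRing A] [Algebra k A] :
    (VecGrp.pt k A ⟶ G) →* ((A ⊗[k] (Fin N → k)) ≃ₗ[A] (A ⊗[k] (Fin N → k))) :=
  r.gmod.ρ A

theorem auto_push {A B : Type u} [CommRing A] [Algebra k A] [CommRing B] [Algebra k B] (φ : A →ₐ[k] B)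
    (g : VecGrp.pt k A ⟶ G) (z : A ⊗[k] (Fin N → k)) :
    push _ φ (auto r A g z) = auto r B (VecGrp.ptMap φ ≫ g) (push _ φ z) :=
  r.gmod.naturality φ g z

theorem repr_auto {A : Type u} [CommRing A] [Algebra k A] (g : VecGrp.pt k A ⟶ G) (i j : Fin N) :
    (GrpQ.RepMat.bas k N A).repr (auto r A g (GrpQ.RepMat.bas k N A j)) i = r.val A g i j := by
  have h : auto r A g (GrpQ.RepMat.bas k N A j) =
      Matrix.toLinAlgEquiv (GrpQ.RepMat.bas k N A) (r.val A g) (GrpQ.RepMat.bas k N A j) := rfl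
  rw [h, Matrix.toLinAlgEquiv_self, map_sum]
  simp [Pi.single_apply, apply_ite (algebraMap k A)]

variable {q d : ℕ} (s : Fin d ↪ Fin N)

/-- Invariance of the coordinate subspace. -/
theorem auto_coordSub_le_iff {A : Type u} [CommRing A] [Algebra k A] (g : VecGrp.pt k A ⟶ G) :
    (GrassTrans.coordSub s A).map (auto r A g).toLinearMap ≤ GrassTrans.coordSub s A ↔
      ∀ (i : Fin N) (b : Fin d), i ∉ Set.range s → r.val A g i (s b) = 0 := by
  constructor
  · intro h i b hi
    have h1 := (GrassTrans.mem_coordSub s _).1 (h (Submodule.mem_map_of_mem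
      (Submodule.subset_span ⟨b, rfl⟩ : _ ∈ GrassTrans.coordSub s A))) i hi
    rw [← repr_auto r g i (s b), Algebra.TensorProduct.basis_apply]
    exact h1
  · intro h
    rw [GrassTrans.coordSub, Submodule.map_span, Submodule.span_le]
    rintro _ ⟨_, ⟨b, rfl⟩, rfl⟩
    refine (GrassTrans.mem_coordSub s _).2 fun i hi => ?_
    rw [← h i b hi, ← repr_auto r g i (s b), Algebra.TensorProduct.basis_apply]
    rfl

/-- The Grassmannian with the action. -/
theorem exists_action (hqN : q ≤ N) :
    ∃ (X : Over (Spec (CommRingCat.of k))) (a : AlgGrp.Action G X),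
      LocallyOfFiniteType X.hom ∧ QuasiCompact X.hom ∧ IsSeparated X.hom ∧
      ∃ e : ∀ (A : Type u) [CommRing A] [Algebra k A], (VecGrp.pt k A ⟶ X) ≃ Gr k (Fin N → k) q A,
        (∀ (A B : Type u) [CommRing A] [Algebra k A] [CommRing B] [Algebra k B] (φ : A →ₐ[k] B)
          (x : VecGrp.pt k A ⟶ X), e B (VecGrp.ptMap φ ≫ x) = Module.Grassmannian.map φ (e A x)) ∧
        ∀ (A : Type u) [CommRing A] [Algebra k A] (g : VecGrp.pt k A ⟶ G) (x : VecGrp.pt k A ⟶ X),
          e A (lift g x ≫ a.act) = GrassTrans.trans (auto r A g) (e A x) := by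
  let X := grass k (Fin N → k) q
  let e : ∀ (A : Type u) [CommRing A] [Algebra k A], (VecGrp.pt k A ⟶ X) ≃ Gr k (Fin N → k) q A :=
    fun A _ _ => grassEquiv A
  have he : ∀ (A B : Type u) [CommRing A] [Algebra k A] [CommRing B] [Algebra k B] (φ : A →ₐ[k] B)
      (x : VecGrp.pt k A ⟶ X), e B (VecGrp.ptMap φ ≫ x) = Module.Grassmannian.map φ (e A x) :=
    fun A B _ _ _ _ φ x => grassEquiv_natural φ x (VecGrp.ptMap φ ≫ x) rfl
  let F : ∀ (A : Type u) [CommRing A] [Algebra k A], (pt k A ⟶ G ⊗ X) → (pt k A ⟶ X) := fun A _ _ z =>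
    (e A).symm (GrassTrans.trans (auto r A (z ≫ fst G X)) (e A (z ≫ snd G X)))
  have hF : IsNatural F := by
    intro A B _ _ _ _ φ z z' h
    have hz : z' = VecGrp.ptMap φ ≫ z := Over.OverMorphism.ext h
    subst hz
    have h2 : F B (VecGrp.ptMap φ ≫ z) = VecGrp.ptMap φ ≫ F A z := by
      apply (e B).injective
      simp only [F, Equiv.apply_symm_apply, he, Category.assoc]
      rw [GrassTrans.map_trans φ _ _ (auto_push r φ (z ≫ fst G X))]
    rw [h2]
    rfl
  obtain ⟨Φ, hΦ⟩ := exists_hom F hF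
  have hact : ∀ (A : Type u) [CommRing A] [Algebra k A] (g : VecGrp.pt k A ⟶ G) (x : VecGrp.pt k A ⟶ X),
      e A (lift g x ≫ Φ) = GrassTrans.trans (auto r A g) (e A x) := fun A _ _ g x => by
    rw [hΦ]
    simp [F]
  let a : AlgGrp.Action G X := GrpSch.actionMk Φ
    (fun T x => hom_ext_points fun A _ _ t => by
      apply (e A).injective
      rw [comp_lift_assoc, MonObj.comp_one, hact, map_one, GrassTrans.trans_one])
    (fun T g h x => hom_ext_points fun A _ _ t => by
      apply (e A).injective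
      rw [comp_lift_assoc, comp_lift_assoc, hact, hact, comp_lift_assoc, hact, MonObj.comp_mul, map_mul,
        GrassTrans.trans_mul])
  obtain ⟨c, hc, hcX⟩ := exists_plucker (R := k) (n := N) (q := q) hqN X (fun A => e A)
    (fun A B φ g g' h => by
      have hg : g' = VecGrp.ptMap φ.hom ≫ g := Over.OverMorphism.ext h
      rw [hg]; exact he _ _ φ.hom g)
  have : IsProper X.hom := by rw [← hcX]; infer_instance
  exact ⟨X, a, inferInstance, inferInstance, inferInstance, e, he, hact⟩

/-- The quotient data for the stabiliser of a coordinate subspace. -/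
theorem exists_isotropy (hq : q + d = N) {H : Over (Spec (CommRingCat.of k))} [GrpObj H] (i : H ⟶ G)
    [IsMonHom i] [Mono i] (hmono : Mono i.left)
    (hH : ∀ (A : Type u) [CommRing A] [Algebra k A] (g : VecGrp.pt k A ⟶ G), (∃ h, h ≫ i = g) ↔
      ∀ (l : Fin N) (b : Fin d), l ∉ Set.range s → r.val A g l (s b) = 0) :
    ∃ (X : Over (Spec (CommRingCat.of k))) (a : AlgGrp.Action G X) (o : 𝟙_ (Over (Spec (CommRingCat.of k))) ⟶ X),
      LocallyOfFiniteType X.hom ∧ QuasiCompact X.hom ∧ IsSeparated X.hom ∧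
        IsPullback i (toUnit H) (a.orbitMap o) o := by
  obtain ⟨X, a, h1, h2, h3, e, he, hact⟩ := exists_action r (q := q) (by omega)
  obtain ⟨P, hP⟩ := GrassTrans.exists_base (K := k) s hq
  let u : 𝟙_ (Over (Spec (CommRingCat.of k))) ⟶ VecGrp.pt k k := Over.homMk (𝟙 _) (by
    change 𝟙 _ ≫ Spec.map (CommRingCat.ofHom (algebraMap k k)) = 𝟙 _
    rw [Category.id_comp]
    exact Spec.map_id _)
  let o := u ≫ (e k).symm P
  have ho : ∀ (A : Type u) [CommRing A] [Algebra k A],
      (e A (toUnit (VecGrp.pt k A) ≫ o)).toSubmodule = GrassTrans.coordSub s A := by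
    intro A _ _
    have : toUnit (VecGrp.pt k A) ≫ u = VecGrp.ptMap (Algebra.ofId k A) :=
      Over.OverMorphism.ext ((Category.comp_id _).trans rfl)
    rw [← Category.assoc, this, he, Equiv.apply_symm_apply, GrassTrans.map_base s P hP]
  have key : ∀ (A : Type u) [CommRing A] [Algebra k A] (g : VecGrp.pt k A ⟶ G),
      g ≫ a.orbitMap o = toUnit _ ≫ o ↔ ∃ h, h ≫ i = g := by
    intro A _ _ g
    rw [GrpSch.comp_orbit, hH, ← auto_coordSub_le_iff r s g]
    constructor
    · intro h
      have h' := congrArg (fun z => (e A z).toSubmodule) h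
      simp only [hact, GrassTrans.trans_toSubmodule, ho] at h'
      exact h'.le
    · intro h
      have h0 : ∃ x, x ≫ i = g := (hH A g).2 ((auto_coordSub_le_iff r s g).1 h)
      obtain ⟨x, rfl⟩ := h0
      have hinv := (auto_coordSub_le_iff r s (x⁻¹ ≫ i)).2 ((hH A _).1 ⟨x⁻¹, rfl⟩)
      apply (e A).injective
      apply Module.Grassmannian.ext
      simp only [hact, GrassTrans.trans_toSubmodule, ho]
      refine le_antisymm h fun z hz => ?_
      refine ⟨auto r A (x⁻¹ ≫ i) z, hinv (Submodule.mem_map_of_mem hz), ?_⟩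
      change (auto r A (x ≫ i) * auto r A (x⁻¹ ≫ i)) z = z
      rw [← map_mul, ← MonObj.mul_comp, mul_inv_cancel, MonObj.one_comp, map_one]
      rfl
  have hw : i ≫ a.orbitMap o = toUnit H ≫ o := hom_ext_points fun A _ _ t => by
    exact ((Category.assoc t i _).symm.trans ((key A (t ≫ i)).2 ⟨t, rfl⟩)).trans
      ((congrArg (· ≫ o) (toUnit_unique _ (t ≫ toUnit H))).trans (Category.assoc t _ o))
  have hfac : ∀ (c : PullbackCone (a.orbitMap o) o), ∃ h : c.pt ⟶ H, h ≫ i = c.fst := by
    intro c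
    obtain ⟨w, hw'⟩ := GrpSch.FreeRestr.exists_factor_of_openCover i.left c.fst.left c.pt.left.affineOpenCover.openCover
      fun j => by
        obtain ⟨al, hal⟩ := exists_ptAlgebra (R := k) (c.pt.left.affineOpenCover.f j ≫ c.pt.hom)
        let _ := al
        let t : VecGrp.pt k (c.pt.left.affineOpenCover.X j) ⟶ c.pt :=
          Over.homMk (c.pt.left.affineOpenCover.f j) hal.symm
        obtain ⟨h, hh⟩ := (key _ (t ≫ c.fst)).1 (by
          rw [Category.assoc, c.condition, ← Category.assoc, toUnit_unique (t ≫ c.snd) (toUnit _)])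
        exact ⟨h.left, congrArg (fun z => z.left) hh⟩
    exact ⟨Over.homMk w (by rw [← Over.w i, reassoc_of% hw', Over.w]), Over.OverMorphism.ext hw'⟩
  choose l hl using hfac
  exact ⟨X, a, o, h1, h2, h3, ⟨⟨hw⟩, ⟨PullbackCone.IsLimit.mk _ l hl (fun _ => toUnit_unique _ _)
    fun c m hm _ => by rw [← cancel_mono i, hl]; exact hm⟩⟩⟩

end

end Groth.Agent.Lib.Homog.GrassAct
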