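import Groth.Agent.Lib.GrassRep.Points

/-!
Translates of points of Grassmannians under linear automorphisms, coordinate subspaces.
-/

set_option autoImplicit false

universe u

open TensorProduct Module
open Groth.Agent.Lib.GrassRep

namespace Groth.Agent.Lib.Homog.GrassTrans

noncomputable section

variable {R : Type u} [CommRing R] {M : Type u} [AddCommGroup M] [Module R M] {q : ℕ}
  {A B : Type u} [CommRing A] [Algebra R A] [CommRing B] [Algebra R B]

/-- The base change of a point is spanned by the images of its elements. -/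
theorem map_eq_span (f : A →ₐ[R] B) (N : Gr R M q A) :
    (Grassmannian.map f N).toSubmodule = Submodule.span B (push M f '' (N.toSubmodule : Set (A ⊗[R] M))) := by
  refine le_antisymm ?_ (Submodule.span_le.2 fun z ⟨y, hy, e⟩ => e ▸ push_mem_map f N hy)
  let _ := f.toAlgebra
  have : IsScalarTower R A B := IsScalarTower.of_algebraMap_eq fun r => (f.commutes r).symm
  intro x hx
  rw [Grassmannian.map_toSubmodule, LinearMap.mem_ker] at hx
  let c := AlgebraTensorModule.cancelBaseChange R A B B M
  have hex : Function.Exact (N.toSubmodule.subtype.lTensor B) (N.toSubmodule.mkQ.lTensor B) :=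
    lTensor_exact B (LinearMap.exact_subtype_mkQ _) (Submodule.mkQ_surjective _)
  obtain ⟨w, hw⟩ := (hex (c.symm x)).1 hx
  have hx' : x = c (N.toSubmodule.subtype.lTensor B w) := by rw [hw, LinearEquiv.apply_symm_apply]
  rw [hx']
  clear hw hx' hx
  induction w using TensorProduct.induction_on with
  | zero => simp
  | add a b ha hb => simp only [map_add]; exact add_mem ha hb
  | tmul b y =>
    rw [LinearMap.lTensor_tmul, Submodule.subtype_apply]
    have key : ∀ z : A ⊗[R] M, c (b ⊗ₜ[A] z) = b • push M f z := fun z => by
      induction z using TensorProduct.induction_on with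
      | zero => simp
      | add a₁ a₂ h1 h2 => simp only [TensorProduct.tmul_add, map_add, smul_add, h1, h2]
      | tmul a m =>
        simp only [c, AlgebraTensorModule.cancelBaseChange_tmul, push, LinearMap.rTensor_tmul,
          AlgHom.toLinearMap_apply, TensorProduct.smul_tmul', smul_eq_mul]
        congr 1
        rw [Algebra.smul_def, mul_comm]
        rfl
    rw [key]
    exact Submodule.smul_mem _ _ (Submodule.subset_span ⟨_, y.2, rfl⟩)

/-- The translate of a point. -/
def trans (e : (A ⊗[R] M) ≃ₗ[A] (A ⊗[R] M)) (N : Gr R M q A) : Gr R M q A where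
  toSubmodule := N.toSubmodule.map e.toLinearMap
  finite_quotient := Module.Finite.equiv (Submodule.Quotient.equiv _ _ e rfl)
  projective_quotient := Module.Projective.of_equiv (Submodule.Quotient.equiv _ _ e rfl)
  rankAtStalk_eq p := by
    rw [← congrFun (Module.rankAtStalk_eq_of_equiv (Submodule.Quotient.equiv _ _ e rfl)) p, N.rankAtStalk_eq]

theorem trans_toSubmodule (e : (A ⊗[R] M) ≃ₗ[A] (A ⊗[R] M)) (N : Gr R M q A) :
    (trans e N).toSubmodule = N.toSubmodule.map e.toLinearMap := rfl

theorem trans_one (N : Gr R M q A) : trans 1 N = N := Grassmannian.ext (Submodule.map_id _)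

theorem trans_mul (e e' : (A ⊗[R] M) ≃ₗ[A] (A ⊗[R] M)) (N : Gr R M q A) : trans (e * e') N = trans e (trans e' N) :=
  Grassmannian.ext (Submodule.map_comp _ _ _)

theorem map_trans (f : A →ₐ[R] B) (e : (A ⊗[R] M) ≃ₗ[A] (A ⊗[R] M)) (e' : (B ⊗[R] M) ≃ₗ[B] (B ⊗[R] M))
    (he : ∀ z, push M f (e z) = e' (push M f z)) (N : Gr R M q A) :
    Grassmannian.map f (trans e N) = trans e' (Grassmannian.map f N) := by
  apply Grassmannian.ext
  simp only [map_eq_span, trans_toSubmodule, Submodule.map_span, Submodule.map_coe, Set.image_image,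
    LinearEquiv.coe_coe, he]

/-! ### Coordinate subspaces -/

variable {N d : ℕ} {K : Type u} [Field K] (s : Fin d ↪ Fin N)

/-- The span of the selected coordinate vectors. -/
def coordSub (A : Type u) [CommRing A] [Algebra K A] : Submodule A (A ⊗[K] (Fin N → K)) :=
  Submodule.span A (Set.range fun b => (1 : A) ⊗ₜ[K] Pi.basisFun K (Fin N) (s b))

theorem mem_coordSub {A : Type u} [CommRing A] [Algebra K A] (z : A ⊗[K] (Fin N → K)) :
    z ∈ coordSub s A ↔ ∀ i ∉ Set.range s, (Algebra.TensorProduct.basis A (Pi.basisFun K (Fin N))).repr z i = 0 := by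
  classical
  have h : (fun b => (1 : A) ⊗ₜ[K] Pi.basisFun K (Fin N) (s b)) =
      (Algebra.TensorProduct.basis A (Pi.basisFun K (Fin N))) ∘ s := by
    funext b; simp [Algebra.TensorProduct.basis_apply]
  rw [coordSub, h, Set.range_comp, Module.Basis.mem_span_image]
  simp only [Set.subset_def, Finsupp.mem_support_iff, Finset.mem_coe]
  exact ⟨fun h i hi => by_contra fun h' => hi (h i h'), fun h i hi => by_contra fun h' => hi (h i h')⟩

theorem push_mem_coordSub {A B : Type u} [CommRing A] [Algebra K A] [CommRing B] [Algebra K B] (f : A →ₐ[K] B)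
    {z : A ⊗[K] (Fin N → K)} (hz : z ∈ coordSub s A) : push _ f z ∈ coordSub s B := by
  induction hz using Submodule.span_induction with
  | mem x hx =>
    obtain ⟨b, rfl⟩ := hx
    exact Submodule.subset_span ⟨b, by simp [push]⟩
  | zero => simp
  | add x y _ _ hx hy => rw [map_add]; exact add_mem hx hy
  | smul a x _ hx => rw [push_smul]; exact Submodule.smul_mem _ _ hx

/-- The coordinate subspace as a point of the Grassmannian. -/
theorem exists_base (hq : q + d = N) :
    ∃ P : Gr K (Fin N → K) q K, P.toSubmodule = coordSub s K := by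
  classical
  let b := Algebra.TensorProduct.basis K (Pi.basisFun K (Fin N))
  refine ⟨{ toSubmodule := coordSub s K
            finite_quotient := inferInstance
            projective_quotient := inferInstance
            rankAtStalk_eq := fun p => ?_ }, rfl⟩
  rw [Module.rankAtStalk_eq_finrank_of_free]
  have h1 := Submodule.finrank_quotient_add_finrank (coordSub (K := K) s K)
  have h2 : Module.finrank K (coordSub (K := K) s K) = d := by
    have h : (fun c => (1 : K) ⊗ₜ[K] Pi.basisFun K (Fin N) (s c)) = b ∘ s := by
      funext c; simp [b, Algebra.TensorProduct.basis_apply]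
    rw [coordSub, h, finrank_span_eq_card (b.linearIndependent.comp _ s.injective), Fintype.card_fin]
  have h3 : Module.finrank K (K ⊗[K] (Fin N → K)) = N := by
    rw [Module.finrank_eq_card_basis b, Fintype.card_fin]
  change Module.finrank K _ = q
  omega

/-- Base change of the coordinate subspace. -/
theorem map_base (P : Gr K (Fin N → K) q K) (hP : P.toSubmodule = coordSub s K) (A : Type u) [CommRing A]
    [Algebra K A] : (Grassmannian.map (Algebra.ofId K A) P).toSubmodule = coordSub s A := by
  rw [map_eq_span, hP]
  refine le_antisymm (Submodule.span_le.2 fun z ⟨y, hy, e⟩ => e ▸ push_mem_coordSub s _ hy)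
    (Submodule.span_le.2 ?_)
  rintro _ ⟨b, rfl⟩
  exact Submodule.subset_span ⟨(1 : K) ⊗ₜ[K] Pi.basisFun K (Fin N) (s b), Submodule.subset_span ⟨b, rfl⟩,
    by simp [push]⟩

end

end Groth.Agent.Lib.Homog.GrassTrans
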